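import Groth.Prelude
import Groth.Agent.Lib.ProjSpace.BaseChange
import Groth.Agent.Lib.Cyc.CH.RatConn
import Groth.Agent.Lib.AffineCompl53.Irred
import Groth.Agent.Lib.AffineCompl.Dim
import Groth.Agent.Lib.Normalization.Basic
import Groth.Agent.Lib.Normalization.InFieldVariety
import Groth.Agent.Lib.CurveCompl53.Basic
import Groth.Agent.Lib.GenFinite.Basic
import Groth.Agent.Lib.PointDim.Basic
import Groth.Agent.H97.DimOneSetup
import Groth.Agent.S1561
import Mathlib.AlgebraicGeometry.AlgClosed.Basic

/-!
# Closed points of a connected proper scheme are algebraically equivalent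

Two closed points of an irreducible closed subset are joined by a chain of curves: the complement
of an affine open avoiding both is connected and of smaller dimension.
-/

set_option autoImplicit false
set_option linter.style.haveILetI false
set_option linter.unusedSimpArgs false
set_option backward.isDefEq.respectTransparency false
set_option backward.isDefEq.respectTransparency.types false
universe u
open AlgebraicGeometry CategoryTheory CategoryTheory.Limits TopologicalSpace AlgEqCyc

noncomputable section

namespace Groth.Agent.Lib.AlgEq37.Chain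

open Groth.Agent.Lib Groth.Agent.Lib.Cyc

/-- The member of the diagonal family at a rational point. -/
theorem fibreFun_graph {k : Type u} [Field k] {C X : Scheme.{u}} [DecidableEq ↥X] [IsIntegral C]
    (p : X ⟶ Spec (CommRingCat.of k)) (q : C ⟶ Spec (CommRingCat.of k)) [IsSeparated q]
    (ι : C ⟶ X) [IsSeparated p] (hιp : ι ≫ p = q)
    (t : Spec (CommRingCat.of k) ⟶ C) (ht : t ≫ q = 𝟙 _) [DecidableEq ↥(pullback p q)] (x : X) :
    AlgEqCyc.fibreFun p q (Function.locallyFinsuppWithin.single
        ((pullback.lift ι (𝟙 C) (by simp [hιp]) : C ⟶ pullback p q) (genericPoint C)) (1 : ℤ)) t ht x =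
      (Function.locallyFinsuppWithin.single (ι (t (IsLocalRing.closedPoint k))) (1 : ℤ)) x := by
  classical
  set c := t (IsLocalRing.closedPoint k) with hc
  let D : C ⟶ pullback p q := pullback.lift ι (𝟙 C) (by simp [hιp])
  haveI : IsClosedImmersion D := by
    haveI : IsClosedImmersion (D ≫ pullback.snd p q) := by
      rw [pullback.lift_snd]; infer_instance
    exact IsClosedImmersion.of_comp D (pullback.snd p q)
  set w₀ := D (genericPoint C) with hw₀
  let σ := AlgEqCyc.slice p q t ht
  have hfst : D ≫ pullback.fst p q = ι := pullback.lift_fst _ _ _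
  have hsnd : D ≫ pullback.snd p q = 𝟙 C := pullback.lift_snd _ _ _
  have hσc : σ (ι c) = D c := by
    have : t ≫ ι ≫ σ = t ≫ D := by
      apply pullback.hom_ext
      · simp [σ, D, AlgEqCyc.slice]
      · simp [σ, D, AlgEqCyc.slice, reassoc_of% hιp, reassoc_of% ht]
    exact congrArg (fun φ : Spec (CommRingCat.of k) ⟶ pullback p q => φ (IsLocalRing.closedPoint k)) this
  have hspec : w₀ ⤳ σ x ↔ x = ι c := by
    refine ⟨fun h => ?_, fun h => ?_⟩
    · have hcl : IsClosed (Set.range D) := D.isClosedEmbedding.isClosed_range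
      obtain ⟨d, hd⟩ := h.mem_closed hcl ⟨_, rfl⟩
      have h1 := congrArg (fun v => (pullback.fst p q) v) hd
      have h2 := congrArg (fun v => (pullback.snd p q) v) hd
      simp only [σ, D, AlgEqCyc.slice, ← Scheme.Hom.comp_apply, pullback.lift_fst, pullback.lift_snd,
         CategoryTheory.id_apply] at h1 h2
      rw [Scheme.Hom.comp_apply] at h2
      haveI : Subsingleton ↥(Spec (CommRingCat.of k)) := inferInstanceAs (Subsingleton (PrimeSpectrum k))
      have h1' : ι d = x := h1
      have h2' : d = t (p x) := h2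
      rw [h2', Subsingleton.elim (p x) (IsLocalRing.closedPoint k)] at h1'
      exact h1'.symm
    · subst h
      rw [hσc]
      exact (genericPoint_specializes c).map D.continuous
  rw [AlgEqCyc.fibreFun]
  by_cases hx : x = ι c
  · subst hx
    have h0 : (Function.locallyFinsuppWithin.single w₀ (1 : ℤ)) w₀ = 1 := by simp
    have hmem : (Function.locallyFinsuppWithin.single w₀ (1 : ℤ)) w₀ ≠ 0 ∧ w₀ ⤳ AlgEqCyc.slice p q t ht (ι c) :=
      ⟨by rw [h0]; exact one_ne_zero, hspec.2 rfl⟩
    rw [finsum_eq_single _ (⟨w₀, hmem⟩ : {w : ↥(pullback p q) // (Function.locallyFinsuppWithin.single w₀ (1 : ℤ)) w ≠ 0 ∧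
        w ⤳ AlgEqCyc.slice p q t ht (ι c)}) (fun w hw => (hw (Subtype.ext (by
          by_contra hne
          exact w.2.1 (by simp [hne])))).elim)]
    rw [h0, one_mul]
    simp only [Function.locallyFinsuppWithin.single_apply, if_true, Nat.cast_eq_one]
    -- the multiplicity
    have key : ∀ (v : ↥(pullback p q)) (_ : v = D c) (h : w₀ ⤳ v),
        AlgEqCyc.fibreMult (pullback.snd p q) v w₀ h = 1 := by
      rintro _ rfl h
      unfold AlgEqCyc.fibreMult
      let δ := (D.stalkMap c).hom
      have hδ : Function.Surjective δ := D.stalkMap_surjective c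
      let ι := (C.presheaf.stalkSpecializes (genericPoint_specializes c)).hom
      have hι : Function.Injective ι := by
        have : IsFractionRing (C.presheaf.stalk c) C.functionField := inferInstance
        exact IsFractionRing.injective (C.presheaf.stalk c) C.functionField
      have hker : RingHom.ker (Cyc.specMap (D c) w₀ h) = RingHom.ker δ := by
        have hres : Function.Injective (D.residueFieldMap (genericPoint C)).hom := RingHom.injective _
        have hK : Function.Injective (C.residue (genericPoint C)).hom := by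
          letI : Field (C.presheaf.stalk (genericPoint C)) := inferInstanceAs (Field C.functionField)
          exact RingHom.injective _
        ext a
        simp only [RingHom.mem_ker, Cyc.specMap]
        rw [← map_eq_zero_iff _ hres]
        have e : D.residueFieldMap (genericPoint C) ((pullback p q).residue w₀
            ((pullback p q).presheaf.stalkSpecializes h a)) =
            C.residue (genericPoint C) (ι (δ a)) := by
          rw [Scheme.Hom.residueFieldMap]
          refine (ConcreteCategory.congr_hom (Scheme.residue_residueFieldMap D (genericPoint C)) _).trans ?_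
          exact congrArg (C.residue (genericPoint C))
            (D.stalkSpecializes_stalkMap_apply (genericPoint C) c (genericPoint_specializes c) a)
        show (D.residueFieldMap (genericPoint C)).hom ((pullback p q).residue w₀
            ((pullback p q).presheaf.stalkSpecializes h a)) = 0 ↔ _
        rw [show (D.residueFieldMap (genericPoint C)).hom ((pullback p q).residue w₀
            ((pullback p q).presheaf.stalkSpecializes h a)) = _ from e]
        exact (map_eq_zero_iff _ hK).trans (map_eq_zero_iff _ hι)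
      let O := (pullback p q).presheaf.stalk (D c)
      have hJ : RingHom.ker δ ⊔ (IsLocalRing.maximalIdeal (C.presheaf.stalk (pullback.snd p q (D c)))).map
          ((pullback.snd p q).stalkMap (D c)).hom = IsLocalRing.maximalIdeal O := by
        have hle : RingHom.ker δ ≤ IsLocalRing.maximalIdeal O := IsLocalRing.le_maximalIdeal (RingHom.ker_ne_top δ)
        refine le_antisymm (sup_le hle (IsLocalRing.map_maximalIdeal_le ((pullback.snd p q).stalkMap (D c)).hom)) fun a ha => ?_
        have e : D ≫ pullback.snd p q = 𝟙 C := hsnd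
        haveI : IsIso ((D ≫ pullback.snd p q).stalkMap c) := by rw [e]; infer_instance
        obtain ⟨b, hb⟩ := (ConcreteCategory.bijective_of_isIso ((D ≫ pullback.snd p q).stalkMap c)).2 (δ a)
        rw [Scheme.Hom.stalkMap_comp] at hb
        have hbm : b ∈ IsLocalRing.maximalIdeal _ := by
          rw [IsLocalRing.mem_maximalIdeal, mem_nonunits_iff] at ha ⊢
          intro hu
          have := (hu.map ((pullback.snd p q).stalkMap (D c)).hom).map δ
          exact ha (isUnit_of_map_unit δ a (hb ▸ this))
        refine Submodule.mem_sup.2 ⟨a - ((pullback.snd p q).stalkMap (D c)).hom b, ?_, _,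
          Ideal.mem_map_of_mem _ hbm, sub_add_cancel _ _⟩
        rw [RingHom.mem_ker, map_sub, sub_eq_zero]
        exact hb.symm
      have hlen : Module.length O (Cyc.LocQuot (D c) w₀ h ⧸
          (IsLocalRing.maximalIdeal (C.presheaf.stalk (pullback.snd p q (D c)))).map
            ((Ideal.Quotient.mk (RingHom.ker (Cyc.specMap (D c) w₀ h))).comp
              ((pullback.snd p q).stalkMap (D c)).hom)) = 1 := by
        rw [← Ideal.map_map, LinearEquiv.length_eq
          ((DoubleQuot.quotQuotEquivQuotSupₐ O _ _).toLinearEquiv.trans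
            (Submodule.quotEquivOfEq _ (IsLocalRing.maximalIdeal O) (by rw [hker, hJ]))),
          Module.length_eq_one_iff]
        exact isSimpleModule_iff_isCoatom.2 (IsLocalRing.maximalIdeal.isMaximal O).out
      rw [hlen]
      rfl
    exact key _ hσc _
  · haveI : IsEmpty {w : ↥(pullback p q) // (Function.locallyFinsuppWithin.single w₀ (1 : ℤ)) w ≠ 0 ∧
        w ⤳ AlgEqCyc.slice p q t ht x} := ⟨fun w => by
      have : w.1 = w₀ := by
        by_contra hne
        exact w.2.1 (by simp [hne])
      exact hx (hspec.1 (this ▸ w.2.2))⟩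
    rw [finsum_of_isEmpty]
    simp [hx]



open Classical in
/-- The class of a point. -/
def pt1 {X : Scheme.{u}} (x : X) : AlgebraicCycle X ℤ :=
  Function.locallyFinsuppWithin.single x (1 : ℤ)

variable {k : Type u} [Field k] {X : Scheme.{u}} (p : X ⟶ Spec (CommRingCat.of k))

/-- Algebraic equivalence of the classes of two points. -/
def E (x y : X) : Prop := pt1 x - pt1 y ∈ AlgEqCyc.algTriv p

theorem E.refl (x : X) : E p x x := by
  show pt1 x - pt1 x ∈ _
  rw [sub_self]
  exact zero_mem _

theorem E.symm {x y : X} (h : E p x y) : E p y x := by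
  have := neg_mem h
  rwa [neg_sub] at this

theorem E.trans {x y z : X} (h1 : E p x y) (h2 : E p y z) : E p x z := by
  have := add_mem h1 h2
  rwa [sub_add_sub_cancel] at this

/-- Points on the image of a smooth projective curve. -/
theorem E.of_curve [IsSeparated p] [IsAlgClosed k] {C : Scheme.{u}} (q : C ⟶ Spec (CommRingCat.of k))
    [IsSeparated q] (hs : Smooth q) (hpr : Neron.IsProjectiveOver k (Over.mk q)) [IsIntegral C]
    (hd : topologicalKrullDim C = 1) (g : C ⟶ X) (hg : g ≫ p = q) {a b : C}
    (ha : IsClosed ({a} : Set C)) (hb : IsClosed ({b} : Set C)) : E p (g a) (g b) := by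
  classical
  haveI : LocallyOfFiniteType q := by haveI := hs; infer_instance
  refine AddSubgroup.subset_closure ⟨C, q, hs, hpr, ‹_›, hd,
    Function.locallyFinsuppWithin.single
      ((pullback.lift g (𝟙 C) (by simp [hg]) : C ⟶ pullback p q) (genericPoint C)) (1 : ℤ),
    fun w hw => ?_, pointOfClosedPoint q a ha, pointOfClosedPoint q b hb,
    pointOfClosedPoint_comp _ _ _, pointOfClosedPoint_comp _ _ _, fun z => ?_⟩
  · have : w = (pullback.lift g (𝟙 C) (by simp [hg]) : C ⟶ pullback p q) (genericPoint C) := by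
      by_contra hne
      exact hw (by simp [hne])
    rw [this, ← Scheme.Hom.comp_apply, pullback.lift_snd]
    simp [genericPoint_closure]
  · rw [fibreFun_graph p q g hg, fibreFun_graph p q g hg]
    simp [pt1, Pi.single_apply]

variable [IsAlgClosed k] [IsProper p]

/-- Two closed points of an integral proper curve. -/
theorem E.of_integral_curve {Z : Scheme.{u}} [IsIntegral Z] (i : Z ⟶ X) [IsProper (i ≫ p)]
    (hdim : topologicalKrullDim Z = 1) {a b : Z} (ha : IsClosed ({a} : Set Z))
    (hb : IsClosed ({b} : Set Z)) : E p (i a) (i b) := by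
  letI : Z.Over (Spec (CommRingCat.of k)) := ⟨i ≫ p⟩
  haveI : LocallyOfFiniteType (Z ↘ Spec (CommRingCat.of k)) :=
    (inferInstance : LocallyOfFiniteType (i ≫ p))
  haveI : QuasiCompact (Z.fromSpecStalk (genericPoint Z)) := ⟨fun U _ _ => by
    haveI : Subsingleton (Spec (Z.presheaf.stalk (genericPoint Z))) :=
      inferInstanceAs (Subsingleton (PrimeSpectrum Z.functionField))
    exact (Set.subsingleton_of_subsingleton
      (s := Z.fromSpecStalk (genericPoint Z) ⁻¹' U)).isCompact⟩
  let ν := Curv2.normalizationι Z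
  haveI : IsFinite ν := Normalization.InFieldVariety.isFinite_normalizationι k Z
  have hsurj : Function.Surjective ν := Normalization.Basic.surjective_normalizationι Z
  have hN : Pi1.IsNormalScheme (Curv2.normalization Z) :=
    Normalization.InField.isNormalScheme (RingHom.id Z.functionField)
      (Z.fromSpecStalk (genericPoint Z))
      (by show _ = Spec.map (𝟙 Z.functionField) ≫ _; rw [Spec.map_id, Category.id_comp])
  have hd : topologicalKrullDim (Curv2.normalization Z) = 1 :=
    (AffineCompl.Dim.topologicalKrullDim_of_finite_surjective ν hsurj).trans hdim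
  let C := Curv2.normalization Z
  haveI : IsIntegral C := Normalization.InField.isIntegral_normalization _
  letI : C.Over (Spec (CommRingCat.of k)) := ⟨ν ≫ i ≫ p⟩
  haveI : IsProper (C ↘ Spec (CommRingCat.of k)) := (inferInstance : IsProper (ν ≫ i ≫ p))
  haveI : IsLocallyNoetherian C :=
    LocallyOfFiniteType.isLocallyNoetherian (C ↘ Spec (CommRingCat.of k))
  haveI : LocallyOfFinitePresentation (C ↘ Spec (CommRingCat.of k)) := inferInstance
  haveI : IsSeparated (C ↘ Spec (CommRingCat.of k)) := inferInstance
  have hsm : Smooth (C ↘ Spec (CommRingCat.of k)) := by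
    rw [← Scheme.Hom.smoothLocus_eq_top_iff]
    refine top_le_iff.1 fun y _ => ((Groth.Agent.S1561.result k C).1 y).2 ?_
    haveI := (hN y).1
    haveI := (hN y).2
    exact CurveCompl53.Basic.isRegularLocalRing_of_dim_le_one _
      (Groth.Agent.H97.DimOneSetup.ringKrullDim_stalk_le_one hd.le y)
  have hpr : Neron.IsProjectiveOver k (Over.mk (C ↘ Spec (CommRingCat.of k))) := by
    obtain ⟨n, j, hj, hjq⟩ := CurveCompl53.Basic.exists_closedImmersion k C hd
    refine ⟨n, j ≫ (ProjSpace.BaseChange.overSpecIso n k).inv, inferInstance, ?_⟩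
    show (j ≫ _) ≫ _ = C ↘ Spec (CommRingCat.of k)
    rw [Category.assoc, ProjSpace.BaseChange.overSpecIso_inv_toBase, hjq]
  haveI : CompactSpace C := QuasiCompact.compactSpace_of_compactSpace (C ↘ Spec (CommRingCat.of k))
  have hlift : ∀ z : Z, IsClosed ({z} : Set Z) → ∃ c : C, ν c = z ∧ IsClosed ({c} : Set C) := fun z hz => by
    obtain ⟨c₀, hc₀⟩ := hsurj z
    obtain ⟨c, h1, h2⟩ := (hz.preimage ν.continuous).exists_closed_singleton ⟨c₀, hc₀⟩
    exact ⟨c, h1, h2⟩
  obtain ⟨ca, hca, hca'⟩ := hlift a ha
  obtain ⟨cb, hcb, hcb'⟩ := hlift b hb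
  have h := E.of_curve p (C ↘ Spec (CommRingCat.of k)) hsm hpr hd (ν ≫ i) (Category.assoc _ _ _) hca' hcb'
  rwa [Scheme.Hom.comp_apply, Scheme.Hom.comp_apply, hca, hcb] at h

/-- Chains: closed subsets covered by finitely many closed subsets each having one class. -/
theorem E.of_connected {H : Set X} (hconn : _root_.IsPreconnected H) (T : Set (Set X)) (hTf : T.Finite)
    (hTc : ∀ Z ∈ T, IsClosed Z) (hT : H = ⋃₀ T)
    (hE : ∀ Z ∈ T, ∀ a b : X, a ∈ Z → b ∈ Z → IsClosed ({a} : Set X) → IsClosed ({b} : Set X) → E p a b)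
    {a b : X} (ha : IsClosed ({a} : Set X)) (hb : IsClosed ({b} : Set X)) (haH : a ∈ H) (hbH : b ∈ H) :
    E p a b := by
  haveI : JacobsonSpace X := LocallyOfFiniteType.jacobsonSpace p
  let A := {Z ∈ T | ∃ z ∈ Z, IsClosed ({z} : Set X) ∧ E p a z}
  let B := {Z ∈ T | Z ∉ A}
  have hAB : H ⊆ ⋃₀ A ∪ ⋃₀ B := fun x hx => by
    obtain ⟨Z, hZ, hxZ⟩ := (hT ▸ hx : x ∈ ⋃₀ T)
    by_cases h : Z ∈ A
    · exact Or.inl ⟨Z, h, hxZ⟩
    · exact Or.inr ⟨Z, ⟨hZ, h⟩, hxZ⟩
  obtain ⟨Zb, hZb, hbZ⟩ := (hT ▸ hbH : b ∈ ⋃₀ T)
  by_cases hbA : Zb ∈ A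
  · obtain ⟨-, z, hz, hzc, hr⟩ := hbA
    exact E.trans p hr (hE Zb hZb z b hz hbZ hzc hb)
  exfalso
  have hcA : IsClosed (⋃₀ A) := by
    rw [Set.sUnion_eq_biUnion]; exact (hTf.subset fun W h => h.1).isClosed_biUnion fun W h => hTc W h.1
  have hcB : IsClosed (⋃₀ B) := by
    rw [Set.sUnion_eq_biUnion]; exact (hTf.subset fun W h => h.1).isClosed_biUnion fun W h => hTc W h.1
  obtain ⟨Za, hZa, haZ⟩ := (hT ▸ haH : a ∈ ⋃₀ T)
  obtain ⟨c, ⟨-, ⟨Z, hZ, hcZ⟩, Z', hZ', hcZ'⟩, hcc⟩ := nonempty_inter_closedPoints
    (isPreconnected_closed_iff.1 hconn _ _ hcA hcB hAB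
      ⟨a, haH, Za, ⟨hZa, a, haZ, ha, E.refl p _⟩, haZ⟩ ⟨b, hbH, Zb, ⟨hZb, hbA⟩, hbZ⟩)
    ((hT ▸ (by rw [Set.sUnion_eq_biUnion]; exact hTf.isClosed_biUnion hTc) : IsClosed H).inter
      (hcA.inter hcB)).isLocallyClosed
  obtain ⟨z, hz, hzc, hr⟩ := hZ.2
  exact hZ'.2 ⟨hZ'.1, c, hcZ', hcc, E.trans p hr (hE Z hZ.1 z c hz hcZ hzc hcc)⟩

/-- Two closed points in the closure of a point. -/
theorem E.of_closure (η : X) : ∀ a b : X, η ⤳ a → η ⤳ b → IsClosed ({a} : Set X) →
    IsClosed ({b} : Set X) → E p a b := by
  suffices h : ∀ (d : ℕ) (η : X), (FieldDim.fdelta p η).toNat ≤ d → ∀ a b : X, η ⤳ a → η ⤳ b →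
      IsClosed ({a} : Set X) → IsClosed ({b} : Set X) → E p a b from h _ η le_rfl
  intro d
  induction d with
  | zero =>
    intro η hη a b hηa hηb _ _
    have hc : IsClosed ({η} : Set X) := CH.RatConn.delta_closed p (by have := FieldDim.fdelta_nonneg p η; omega)
    rw [show a = η from hηa.mem_closed hc rfl, show b = η from hηb.mem_closed hc rfl]
    exact E.refl p η
  | succ d ih =>
    intro η hη a b hηa hηb ha hb
    by_cases hle : (FieldDim.fdelta p η).toNat ≤ d
    · exact ih η hle a b hηa hηb ha hb
    let I := Scheme.IdealSheafData.vanishingIdeal (⟨closure {η}, isClosed_closure⟩ : Closeds X)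
    let i := I.subschemeι
    have hr : Set.range i = closure {η} := by
      rw [show Set.range i = _ from I.range_subschemeι, Scheme.IdealSheafData.coe_support_vanishingIdeal]
      rfl
    haveI : IsReduced I.subscheme := Groth.Agent.H75.RedSub.isReduced_vanishingIdeal _
    obtain ⟨η', hη'⟩ := hr.symm ▸ subset_closure (Set.mem_singleton η)
    have hgen : ∀ z : I.subscheme, η' ⤳ z := fun z => by
      rw [← i.isEmbedding.isInducing.specializes_iff, hη']
      exact specializes_iff_mem_closure.2 (hr ▸ ⟨z, rfl⟩)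
    haveI : IrreducibleSpace I.subscheme := by
      rw [irreducibleSpace_def]
      have : closure ({η'} : Set I.subscheme) = Set.univ :=
        Set.eq_univ_of_forall fun z => (hgen z).mem_closure
      have h2 := (isIrreducible_singleton (x := η')).closure
      rw [this] at h2
      exact h2
    haveI : IsIntegral I.subscheme := isIntegral_of_irreducibleSpace_of_isReduced _
    have hgp : genericPoint I.subscheme = η' :=
      (genericPoint_spec I.subscheme).eq (Set.eq_univ_of_forall fun z => (hgen z).mem_closure)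
    obtain ⟨a', rfl⟩ := hr.symm ▸ hηa.mem_closure
    obtain ⟨b', rfl⟩ := hr.symm ▸ hηb.mem_closure
    have hcl : ∀ z, IsClosed ({i z} : Set X) → IsClosed ({z} : Set I.subscheme) := fun z hz => by
      have h1 := hz.preimage i.continuous
      rwa [← Set.image_singleton, i.isEmbedding.injective.preimage_image] at h1
    have hcl' : ∀ z, IsClosed ({z} : Set I.subscheme) → IsClosed ({i z} : Set X) := fun z hz => by
      simpa using i.isClosedEmbedding.isClosedMap _ hz
    obtain ⟨e, he, hfd⟩ := GenFinite.Basic.fdelta_eq (i ≫ p) p i rfl η'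
    have hdimZ := GenFinite.Basic.topologicalKrullDim_eq_fdelta (i ≫ p)
    rw [hgp] at hdimZ
    have he0 : e = 0 := by
      have := FieldDim.trdegAt_eq_zero_of_surjective i η' (FieldDim.residueFieldMap_surjective i η')
      exact_mod_cast he.symm.trans this
    rw [he0, hη'] at hfd
    rw [show (FieldDim.fdelta (i ≫ p) η').toNat = d + 1 by omega] at hdimZ
    rcases d.eq_zero_or_pos with rfl | hd0
    · exact E.of_integral_curve p i (by simpa using hdimZ) (hcl _ ha) (hcl _ hb)
    haveI : IsLocallyNoetherian I.subscheme := LocallyOfFiniteType.isLocallyNoetherian (i ≫ p)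
    haveI : CompactSpace I.subscheme := QuasiCompact.compactSpace_of_compactSpace (i ≫ p)
    haveI : IsNoetherian I.subscheme := {}
    have hne : η' ∉ ({a', b'} : Set I.subscheme) := by
      intro h
      have hηc : IsClosed ({η} : Set X) := by
        rcases h with h | h
        · rw [← hη', h]; exact ha
        · rw [← hη', Set.mem_singleton_iff.1 h]; exact hb
      have := FieldDim.fdelta_of_isClosed p η hηc
      omega
    obtain ⟨U, hU, hηU, hUsub⟩ := (I.subscheme.isBasis_affineOpens).exists_subset_of_mem_open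
      (show η' ∈ (({a', b'} : Set I.subscheme)ᶜ) from hne)
      (((hcl _ ha).union (hcl _ hb)).isOpen_compl)
    obtain ⟨U, hU, rfl⟩ := hU
    have hconn := AffineCompl53.Irred.isConnected_compl k (i ≫ p)
      (by rw [hdimZ]; exact_mod_cast (show 2 ≤ d + 1 by omega)) U hU ⟨η', hηU⟩
    have hHc : IsClosed ((U : Set I.subscheme)ᶜ) := U.isOpen.isClosed_compl
    obtain ⟨T, hTf, hTc, hTi, hT⟩ := NoetherianSpace.exists_finite_set_isClosed_irreducible hHc
    refine E.of_connected p (H := i '' ((U : Set I.subscheme)ᶜ))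
      (hconn.isPreconnected.image _ i.continuous.continuousOn) ((fun Z => i '' Z) '' T) (hTf.image _)
      (by rintro _ ⟨Z, hZ, rfl⟩; exact i.isClosedEmbedding.isClosedMap _ (hTc Z hZ))
      (by rw [hT, Set.image_sUnion]) ?_ ha hb
      ⟨a', fun h => hUsub h (Set.mem_insert _ _), rfl⟩
      ⟨b', fun h => hUsub h (Set.mem_insert_of_mem _ rfl), rfl⟩
    rintro _ ⟨Z, hZ, rfl⟩ x y ⟨x', hx', rfl⟩ ⟨y', hy', rfl⟩ hxc hyc
    obtain ⟨ζ, hζ⟩ := QuasiSober.sober (hTi Z hZ) (hTc Z hZ)
    have hζU : ζ ∉ U := (hT.ge ⟨Z, hZ, hζ.mem⟩ : ζ ∈ (U : Set I.subscheme)ᶜ)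
    have hlt : FieldDim.fdelta p (i ζ) < FieldDim.fdelta p η := by
      refine DimFun.lt_of_specializes (FieldDim.isDimFun_fdelta p) (hη' ▸ (hgen ζ).map i.continuous) ?_
      intro h
      exact hζU (i.isEmbedding.injective (hη'.trans h) ▸ hηU)
    have := FieldDim.fdelta_nonneg p (i ζ)
    exact ih (i ζ) (by omega) _ _ ((hζ.specializes hx').map i.continuous)
      ((hζ.specializes hy').map i.continuous) hxc hyc

end Groth.Agent.Lib.AlgEq37.Chain
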