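import Groth.Agent.Lib.AlgEq37.Chain
import Groth.Agent.H2.Rigid.GeomIrred
import Groth.Agent.Lib.Cyc.CH.BlowPtMain
import Groth.Agent.Lib.Cyc.DegK.Main

/-!
# Zero-cycles of degree zero on a connected smooth proper scheme
-/

set_option autoImplicit false
set_option linter.style.haveILetI false
universe u
open AlgebraicGeometry CategoryTheory CategoryTheory.Limits TopologicalSpace

noncomputable section

namespace Groth.Agent.Lib.AlgEq37.Total

open Groth.Agent.Lib Groth.Agent.Lib.Cyc

variable {k : Type u} [Field k] {X : Scheme.{u}} (p : X ⟶ Spec (CommRingCat.of k))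

include p in
theorem exists_generic [Smooth p] [ConnectedSpace X] : ∃ η : X, ∀ x, η ⤳ x := by
  haveI := Groth.Agent.H2.Rigid.GeomIrred.isIntegral_of_smooth p
  exact ⟨genericPoint X, genericPoint_specializes⟩

variable [IsAlgClosed k] [IsProper p]

theorem isAlgEquivZero (η : X) (hη : ∀ x, η ⤳ x) (δ : X → ℤ) (hδ : Cyc.DeltaCompat p δ fun _ => 0)
    (α : AlgebraicCycle X ℤ) (hα : α ∈ Cyc.Zk X δ 0) (hdeg : ChowOps.deg p δ α = 0) :
    AlgEqCyc.IsAlgEquivZero p α := by
  classical
  haveI : CompactSpace X := QuasiCompact.compactSpace_of_compactSpace p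
  haveI : IsLocallyNoetherian X := LocallyOfFiniteType.isLocallyNoetherian p
  haveI : IsNoetherian X := {}
  letI : X.Over (Spec (CommRingCat.of k)) := ⟨p⟩
  haveI : IsProper (X ↘ Spec (CommRingCat.of k)) := ‹IsProper p›
  have hδeq : ∀ x, δ x = FieldDim.fdelta p x := fun x => by
    obtain ⟨m, hm, he⟩ := hδ x
    have h := FieldDim.trdegAt_eq_fdelta p x
    have h' : ((FieldDim.fdelta p x).toNat : Cardinal.{u}) = (m : Cardinal.{u}) := h.symm.trans hm
    have h2 : (FieldDim.fdelta p x).toNat = m := by exact_mod_cast h'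
    have := FieldDim.fdelta_nonneg p x
    rw [he]
    show (0 : ℤ) + _ = _
    omega
  let s := (CH.BlowPt.finite_support α).toFinset
  have hs : ∀ x, α x ≠ 0 → x ∈ s := fun x hx => (CH.BlowPt.finite_support α).mem_toFinset.2 hx
  have hcl : ∀ x ∈ s, IsClosed ({x} : Set X) := fun x hx => CH.RatConn.delta_closed p (by
    rw [← hδeq]
    by_contra h
    exact (CH.BlowPt.finite_support α).mem_toFinset.1 hx (hα x h))
  have hsum : ∑ x ∈ s, α x = 0 := by
    rw [← hdeg, show ChowOps.deg p δ α = _ from DegK.Main.deg_eq_sum (δ := δ) α s hs]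
    refine Finset.sum_congr rfl fun x hx => ?_
    rw [AlgebraicCycle.mapCoeff, if_pos (show δ x = 0 by
        rw [hδeq]; exact FieldDim.fdelta_of_isClosed p x (hcl x hx))]
    rw [show Scheme.Hom.residueDegree (X ↘ Spec (CommRingCat.of k)) x = 1 from
      PointDim.Basic.residueDegree_eq_one_of_kToRes_bijective p x
        (PointDim.Basic.kToRes_bijective_of_isClosed p x (hcl x hx))]
    simp
  show α ∈ AlgEqCyc.algTriv p
  rcases s.eq_empty_or_nonempty with he | ⟨x₀, hx₀⟩
  · have : α = 0 := Function.locallyFinsuppWithin.ext fun x => by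
      by_contra h
      have := hs x h
      simp [he] at this
    rw [this]
    exact zero_mem _
  have key : α = ∑ x ∈ s, α x • (Chain.pt1 x - Chain.pt1 x₀) := by
    simp only [smul_sub, Finset.sum_sub_distrib, ← Finset.sum_smul, hsum, zero_smul, sub_zero]
    refine Function.locallyFinsuppWithin.ext fun z => ?_
    rw [show ((∑ x ∈ s, α x • Chain.pt1 x : AlgebraicCycle X ℤ)) z =
        ∑ x ∈ s, (α x • Chain.pt1 x : AlgebraicCycle X ℤ) z from by
      rw [Function.locallyFinsuppWithin.coe_sum, Finset.sum_apply]]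
    simp only [Function.locallyFinsuppWithin.coe_zsmul, Pi.smul_apply, Chain.pt1,
      Function.locallyFinsuppWithin.single_apply, smul_eq_mul, mul_ite, mul_one, mul_zero,
      Finset.sum_ite_eq, Finset.sum_ite_eq']
    split_ifs with hz
    · rfl
    · by_contra h
      exact hz (hs z h)
  rw [key]
  exact sum_mem fun x hx => zsmul_mem (Chain.E.of_closure p η x x₀ (hη x) (hη x₀) (hcl x hx) (hcl x₀ hx₀)) _

end Groth.Agent.Lib.AlgEq37.Total
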